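import Groth.Agent.BunMod.K54.Theta
import Groth.Agent.Fitt.K360.Basic
import Groth.Agent.SurfBl.K805.R1
import Mathlib.RingTheory.DiscreteValuationRing.Basic
import Mathlib.RingTheory.PowerSeries.Inverse

/-!
# The theta ideal of a family over an affine base whose `H¹` is cyclic

`X` proper of dimension `≤ 1` over a field `k`, `T` affine over `k`, `E` a family on `X_T` with `E ⊗ N` finite locally
free, `X_T = A₁ ∪ A₂` with `A₁`, `A₂` affine, so `H¹(X_T, E ⊗ N) = Γ(A₁ ∩ A₂) / (Γ(A₁) + Γ(A₂))`.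

* `fitt_cyclic`: `Fitt_0` of a cyclic module is the annihilator of a generator;
* `mem_thetaIdeal_iff`: if `H¹` is generated over `Γ(T)` by the class of one section `m` over `A₁ ∩ A₂`, then a
  function `h` lies in the theta ideal iff `h m` is a coboundary;
* `exists_pow`: if `Γ(T)` is a discrete valuation ring with uniformizer `s` and `s ^ j m` is a coboundary, then the
  theta ideal is `(s ^ i)` for some `i ≤ j`.
-/

set_option autoImplicit false
universe u

open CategoryTheory CategoryTheory.Limits AlgebraicGeometry TopologicalSpace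

namespace K360.FitDvr

open K140.BM Groth.Agent.Fdesc.LocGen

section Alg

variable {R : Type u} [CommRing R] {M : Type u} [AddCommGroup M] [Module R M]

/-- `Fitt_0` of a cyclic module is the annihilator of a generator. -/
theorem fitt_cyclic (m : M) (hm : ∀ z : M, ∃ c : R, z = c • m) (h : R) :
    h ∈ Fitt.ideal R M 0 ↔ h • m = 0 := by
  let x : Fin 1 → M := fun _ => m
  have hx : Submodule.span R (Set.range x) = ⊤ := by
    rw [eq_top_iff]
    rintro z -
    obtain ⟨c, rfl⟩ := hm z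
    exact Submodule.smul_mem _ _ (Submodule.subset_span ⟨0, rfl⟩)
  rw [K360.FittBasic.ideal_eq_fit x hx 0]
  constructor
  · intro hh
    have hle : K360.FittBasic.fit x 0 ≤ LinearMap.ker (LinearMap.toSpanSingleton R M m) := by
      rw [K360.FittBasic.fit, Ideal.span_le]
      rintro _ ⟨a, t, ht, ha, rfl⟩
      have h1 := ha 0 (by
        rw [Nat.le_zero, Finset.card_eq_zero] at ht
        rw [ht]
        exact Finset.notMem_empty _)
      rw [Fin.sum_univ_one] at h1
      rw [Matrix.det_unique]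
      exact h1
    exact hle hh
  · intro hh
    refine Ideal.subset_span ⟨Matrix.of fun _ _ => h, ∅, by simp, fun i _ => ?_, ?_⟩
    · rw [Fin.sum_univ_one]
      exact hh
    · rw [Matrix.det_unique]
      rfl

end Alg

section Dvr

/-- An ideal of a discrete valuation ring which contains `s ^ j`, `s` a uniformizer, is `(s ^ i)` with `i ≤ j`. -/
theorem exists_pow_of_mem {R : Type u} [CommRing R] [IsDomain R] [IsDiscreteValuationRing R] {s : R}
    (hs : Irreducible s) {I : Ideal R} {j : ℕ} (h : s ^ j ∈ I) : ∃ i ≤ j, I = Ideal.span {s ^ i} := by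
  have h0 : I ≠ ⊥ := by
    rintro rfl
    exact pow_ne_zero j hs.ne_zero ((Submodule.mem_bot R).mp h)
  obtain ⟨i, hi⟩ := IsDiscreteValuationRing.ideal_eq_span_pow_irreducible h0 hs
  refine ⟨i, ?_, hi⟩
  rw [hi, Ideal.mem_span_singleton] at h
  exact (pow_dvd_pow_iff hs.ne_zero hs.not_isUnit).mp h

end Dvr

variable {k : Type u} [Field k] {X : Scheme.{u}} [X.Over (Spec (CommRingCat.of k))]

/-- **The theta ideal of a family whose `H¹` is generated by one class.** -/
theorem mem_thetaIdeal_iff [IsProper (st k X)] (hdim : topologicalKrullDim X ≤ 1) {T : Over (B0 k)} [IsAffine T.left]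
    {N : X.Modules} {E : (PicF.XT (st k X) T).Modules}
    (hE : FlatMod.IsFinLocFree (CohB1.tensorMod E (cst k T N)))
    {A₁ A₂ : (PicF.XT (st k X) T).Opens} (h1 : IsAffineOpen A₁) (h2 : IsAffineOpen A₂) (hc : A₁ ⊔ A₂ = ⊤)
    (m : Γ(CohB1.tensorMod E (cst k T N), A₁ ⊓ A₂))
    (hm : ∀ z : Γ(CohB1.tensorMod E (cst k T N), A₁ ⊓ A₂), ∃ (c : Γ(T.left, ⊤))
      (a : Γ(CohB1.tensorMod E (cst k T N), A₁)) (b : Γ(CohB1.tensorMod E (cst k T N), A₂)),
      z = ores (le_top : A₁ ⊓ A₂ ≤ (⊤ : (PicF.XT (st k X) T).Opens)) ((PicF.XTproj (st k X) T).app ⊤ c) • m +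
        (res _ inf_le_left a - res _ inf_le_right b)) (h : Γ(T.left, ⊤)) :
    h ∈ (thetaIdeal k N T E).ideal ⟨⊤, isAffineOpen_top T.left⟩ ↔
      ∃ (a : Γ(CohB1.tensorMod E (cst k T N), A₁)) (b : Γ(CohB1.tensorMod E (cst k T N), A₂)),
        ores (le_top : A₁ ⊓ A₂ ≤ (⊤ : (PicF.XT (st k X) T).Opens)) ((PicF.XTproj (st k X) T).app ⊤ h) • m = res _ inf_le_left a - res _ inf_le_right b := by
  have h3 := K54.Theta.isFT_Rpush hdim hE
  have q1 : Coh.IsQCoh ((Coh.Rpush (PicF.XTproj (st k X) T) 1).obj (CohB1.tensorMod E (cst k T N))) :=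
    Groth.Agent.CohqA.RelCoh.isQCoh_Rpush _ _ (Groth.Agent.PerfA.QCohEpi.isQCoh_of_isFinLocFree hE) 1
  obtain ⟨δ, hδ, hk, hl⟩ := K805.R1.exists_conn (PicF.XTproj (st k X) T) (CohB1.tensorMod E (cst k T N))
    (Groth.Agent.PerfA.QCohEpi.isQCoh_of_isFinLocFree hE) (isAffineOpen_top T.left) h1 h2 hc le_top
  rw [thetaIdeal, Groth.Agent.SDiv.K474.FittSheaf.sheafIdeal_ideal _ q1 h3]
  refine (fitt_cyclic (δ m) (fun z => ?_) h).trans ?_
  · obtain ⟨z, rfl⟩ := hδ z
    obtain ⟨c, a, b, rfl⟩ := hm z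
    refine ⟨c, ?_⟩
    rw [map_add, (hk _).mpr ⟨a, b, rfl⟩, add_zero]
    exact hl c m
  · rw [← hl h m]
    exact hk _

/-- **Discrete valuation rings**: if `H¹` is generated by the class of `m` and `s ^ j` kills it, `s` a uniformizer of
`Γ(T)`, then the theta ideal is `(s ^ i)` with `i ≤ j`. -/
theorem exists_pow [IsProper (st k X)] (hdim : topologicalKrullDim X ≤ 1) {T : Over (B0 k)} [IsAffine T.left]
    {N : X.Modules} {E : (PicF.XT (st k X) T).Modules}
    (hE : FlatMod.IsFinLocFree (CohB1.tensorMod E (cst k T N)))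
    {A₁ A₂ : (PicF.XT (st k X) T).Opens} (h1 : IsAffineOpen A₁) (h2 : IsAffineOpen A₂) (hc : A₁ ⊔ A₂ = ⊤)
    (m : Γ(CohB1.tensorMod E (cst k T N), A₁ ⊓ A₂))
    (hm : ∀ z : Γ(CohB1.tensorMod E (cst k T N), A₁ ⊓ A₂), ∃ (c : Γ(T.left, ⊤))
      (a : Γ(CohB1.tensorMod E (cst k T N), A₁)) (b : Γ(CohB1.tensorMod E (cst k T N), A₂)),
      z = ores (le_top : A₁ ⊓ A₂ ≤ (⊤ : (PicF.XT (st k X) T).Opens)) ((PicF.XTproj (st k X) T).app ⊤ c) • m +
        (res _ inf_le_left a - res _ inf_le_right b))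
    {R : Type u} [CommRing R] [IsDomain R] [IsDiscreteValuationRing R] (e : R ≃+* Γ(T.left, ⊤)) {s : R}
    (hs : Irreducible s) {j : ℕ}
    (hj : ∃ (a : Γ(CohB1.tensorMod E (cst k T N), A₁)) (b : Γ(CohB1.tensorMod E (cst k T N), A₂)),
      ores (le_top : A₁ ⊓ A₂ ≤ (⊤ : (PicF.XT (st k X) T).Opens)) ((PicF.XTproj (st k X) T).app ⊤ (e (s ^ j))) • m =
        res _ inf_le_left a - res _ inf_le_right b) :
    ∃ i ≤ j, (thetaIdeal k N T E).ideal ⟨⊤, isAffineOpen_top T.left⟩ = Ideal.span {e (s ^ i)} := by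
  have h3 := (mem_thetaIdeal_iff hdim hE h1 h2 hc m hm (e (s ^ j))).mpr hj
  obtain ⟨i, hi, h4⟩ := exists_pow_of_mem hs
    (I := ((thetaIdeal k N T E).ideal ⟨⊤, isAffineOpen_top T.left⟩).comap (e : R →+* Γ(T.left, ⊤))) h3
  refine ⟨i, hi, ?_⟩
  have h5 := congrArg (Ideal.map (e : R →+* Γ(T.left, ⊤))) h4
  exact (Ideal.map_comap_of_surjective (e : R →+* Γ(T.left, ⊤)) e.surjective _).symm.trans
    (h5.trans ((Ideal.map_span _ _).trans (congrArg Ideal.span Set.image_singleton)))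

end K360.FitDvr
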