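import Groth.Agent.BunMod.K360.FitDvr
import Groth.Agent.BunMod.K890.KSDefs

/-!
# The theta ideal of a family over `Spec A` whose `H¹` is generated by one class

(K4) of the block KS: `A` a `k`-algebra, `F` a family on `X_A`, `F ⊗ N ≅ H` finite locally free, `h₀` a generator of
`R¹p_* H`. Then `fn a` lies in the theta ideal of `F` iff `fn a • h₀ = 0`.
-/

set_option autoImplicit false
universe u

open CategoryTheory CategoryTheory.Limits AlgebraicGeometry TopologicalSpace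

namespace K360.FitTheta

open K140.BM K890.KS

variable {k : Type u} [Field k] {X : Scheme.{u}} [X.Over (Spec (CommRingCat.of k))]

/-- The theta ideal over an affine base is `Fitt_0` of the sections of `R¹p_* H`, `H ≅ E ⊗ N`. -/
theorem thetaIdeal_eq_fitt [IsProper (st k X)] (hdim : topologicalKrullDim X ≤ 1) {T : Over (B0 k)} [IsAffine T.left]
    {N : X.Modules} {E H : (PicF.XT (st k X) T).Modules} (hH : FlatMod.IsFinLocFree H)
    (e : Nonempty (CohB1.tensorMod E (cst k T N) ≅ H)) :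
    (thetaIdeal k N T E).ideal ⟨⊤, isAffineOpen_top T.left⟩ =
      Fitt.ideal Γ(T.left, ⊤) Γ((Coh.Rpush (PicF.XTproj (st k X) T) 1).obj H, ⊤) 0 := by
  obtain ⟨e⟩ := e
  have h1 := K54.Theta.isFT_Rpush hdim hH
  have q1 : Coh.IsQCoh ((Coh.Rpush (PicF.XTproj (st k X) T) 1).obj H) :=
    Groth.Agent.CohqA.RelCoh.isQCoh_Rpush _ _ (Groth.Agent.PerfA.QCohEpi.isQCoh_of_isFinLocFree hH) 1
  let e' : (Coh.Rpush (PicF.XTproj (st k X) T) 1).obj (CohB1.tensorMod E (cst k T N)) ≅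
    (Coh.Rpush (PicF.XTproj (st k X) T) 1).obj H := (Coh.Rpush (PicF.XTproj (st k X) T) 1).mapIso e
  have q2 := Groth.Agent.PerfA.QCohSerre.isQCoh_of_iso e'.symm q1
  have h2 : CohB1.IsFT ((Coh.Rpush (PicF.XTproj (st k X) T) 1).obj (CohB1.tensorMod E (cst k T N))) :=
    Groth.Agent.SDiv.K474.FittBlow.isFT_iso e'.symm q1 q2 h1
  rw [thetaIdeal, Groth.Agent.SDiv.K474.FittBlow.sheafIdeal_iso e' q2 q1 h2 h1 0,
    Groth.Agent.SDiv.K474.FittSheaf.sheafIdeal_ideal _ q1 h1]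

variable {A : Type u} [CommRing A] [Algebra k A]

theorem isAffine_SpA (k : Type u) [Field k] (A : Type u) [CommRing A] [Algebra k A] : IsAffine (SpA k A).left :=
  inferInstanceAs (IsAffine (Spec (CommRingCat.of A)))

attribute [local instance] isAffine_SpA

theorem fn_bijective : Function.Bijective (fn k : A →+* Γ((SpA k A).left, ⊤)) := by
  have h : IsIso (Scheme.ΓSpecIso (CommRingCat.of A)).inv := inferInstance
  exact ConcreteCategory.bijective_of_isIso (Scheme.ΓSpecIso (CommRingCat.of A)).inv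

/-- **(K4)**: `h₀` a generator of `R¹p_* H`, `H ≅ F ⊗ N`: `fn a` is in the theta ideal iff `fn a • h₀ = 0`. -/
theorem mem_thetaIdeal_iff [IsProper (st k X)] (hdim : topologicalKrullDim X ≤ 1) {N : X.Modules}
    {F H : (PicF.XT (st k X) (SpA k A)).Modules} (hH : FlatMod.IsFinLocFree H)
    (e : Nonempty (CohB1.tensorMod F (cst k (SpA k A) N) ≅ H)) (h₀ : R1 (k := k) A H)
    (hgen : ∀ x : R1 (k := k) A H, ∃ r : A, x = fn k r • h₀) (a : A) :
    fn k a ∈ (thetaIdeal k N (SpA k A) F).ideal ⟨⊤, isAffineOpen_top (SpA k A).left⟩ ↔ fn k a • h₀ = 0 := by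
  rw [thetaIdeal_eq_fitt hdim hH e]
  exact FitDvr.fitt_cyclic h₀ (fun z => by
    obtain ⟨r, hr⟩ := hgen z
    exact ⟨fn k r, hr⟩) (fn k a)

/-- **(K4), discrete valuation rings**: if moreover `fn (s ^ j) • h₀ = 0`, `s` a uniformizer of `A`, then the theta
ideal is generated by `fn (s ^ i)` for some `i ≤ j`. -/
theorem exists_pow [IsProper (st k X)] (hdim : topologicalKrullDim X ≤ 1) [IsDomain A] [IsDiscreteValuationRing A]
    {s : A} (hs : Irreducible s) {N : X.Modules}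
    {F H : (PicF.XT (st k X) (SpA k A)).Modules} (hH : FlatMod.IsFinLocFree H)
    (e : Nonempty (CohB1.tensorMod F (cst k (SpA k A) N) ≅ H)) (h₀ : R1 (k := k) A H)
    (hgen : ∀ x : R1 (k := k) A H, ∃ r : A, x = fn k r • h₀) {j : ℕ} (hj : fn k (s ^ j) • h₀ = 0) :
    ∃ i ≤ j, (thetaIdeal k N (SpA k A) F).ideal ⟨⊤, isAffineOpen_top (SpA k A).left⟩ =
      Ideal.span {fn k (s ^ i)} := by
  have h3 := (mem_thetaIdeal_iff hdim hH e h₀ hgen (s ^ j)).mpr hj
  obtain ⟨i, hi, h4⟩ := FitDvr.exists_pow_of_mem hs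
    (I := ((thetaIdeal k N (SpA k A) F).ideal ⟨⊤, isAffineOpen_top (SpA k A).left⟩).comap (fn k)) h3
  refine ⟨i, hi, ?_⟩
  have h5 := congrArg (Ideal.map (fn k)) h4
  exact (Ideal.map_comap_of_surjective (fn k) fn_bijective.2 _).symm.trans
    (h5.trans ((Ideal.map_span _ _).trans (congrArg Ideal.span Set.image_singleton)))

/-- **(K4), power series**: `A = Ω⟦X⟧`. -/
theorem exists_pow_series [IsProper (st k X)] (hdim : topologicalKrullDim X ≤ 1) {Ω : Type u} [Field Ω] [Algebra k Ω]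
    {N : X.Modules} {F H : (PicF.XT (st k X) (SpA k (PowerSeries Ω))).Modules} (hH : FlatMod.IsFinLocFree H)
    (e : Nonempty (CohB1.tensorMod F (cst k (SpA k (PowerSeries Ω)) N) ≅ H)) (h₀ : R1 (k := k) (PowerSeries Ω) H)
    (hgen : ∀ x : R1 (k := k) (PowerSeries Ω) H, ∃ r : PowerSeries Ω, x = fn k r • h₀) {j : ℕ}
    (hj : fn k ((PowerSeries.X : PowerSeries Ω) ^ j) • h₀ = 0) :
    ∃ i ≤ j, (thetaIdeal k N (SpA k (PowerSeries Ω)) F).ideal
      ⟨⊤, isAffineOpen_top (SpA k (PowerSeries Ω)).left⟩ =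
      Ideal.span {fn k ((PowerSeries.X : PowerSeries Ω) ^ i)} :=
  exists_pow hdim PowerSeries.X_prime.irreducible hH e h₀ hgen hj

end K360.FitTheta
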