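import Groth.Agent.BunMod.K360.FitTheta
import Groth.Agent.BunMod.K997.KS3
import Groth.Agent.MorSch.K921.PullDual

/-!
# (K4): the order of the theta ideal along `Ω⟦X⟧`

`V_c` the cokernel of `∑ c_i e_i : K ⟶ G` over `Ω⟦X⟧`, `c_i = a_i + τ b_i` with `a`, `b` algebraically independent over
`k` and `τ' = unit · X ^ m`; `0 ⟶ S ⟶ V_c ⟶ Q ⟶ 0` exact, `S`, `Q` finite locally free, `F ⊗ N ≅ S^∨ ⊗ Q`. Then the
theta ideal of `F` is `(X ^ j)` with `j ≤ m`.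
-/

set_option autoImplicit false
universe u

open CategoryTheory CategoryTheory.Limits AlgebraicGeometry TopologicalSpace PowerSeries

namespace K360.KS4

open K140.BM K890.KS

variable {k : Type u} [Field k] {X : Scheme.{u}} [X.Over (Spec (CommRingCat.of k))] {K G : X.Modules} {M : ℕ}
  {e : Fin M → (K ⟶ G)} {Ω : Type u} [Field Ω] [Algebra k Ω]

theorem isFinLocFree_dual_tensor {Y : Scheme.{u}} {S Q : Y.Modules} (hS : FlatMod.IsFinLocFree S)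
    (hQ : FlatMod.IsFinLocFree Q) : FlatMod.IsFinLocFree (CohB1.tensorMod (RefHull.dual S) Q) :=
  Groth.Agent.Sga67.LocBasis.isFinLocFree_tensorMod (K921.PullDual.isFinLocFree_dual hS) hQ

attribute [local instance] FitTheta.isAffine_SpA

/-- **(K4)**: the theta ideal of `F`, `F ⊗ N ≅ S^∨ ⊗ Q`, over `Ω⟦X⟧` is `(X ^ j)`, `j ≤ m`. -/
theorem exists_pow [CharZero k] [IsProper (st k X)] (hdim : topologicalKrullDim X ≤ 1) {a b : Fin M → Ω}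
    (hab : AlgebraicIndependent k (Sum.elim a b)) {τ u : Ω⟦X⟧} {m : ℕ} (hu : IsUnit u)
    (hτ : PowerSeries.derivative Ω τ = u * PowerSeries.X ^ m)
    (h : KSMain (k := k) e Ω⟦X⟧ fun i => C (a i) + τ * C (b i))
    {S Q : (PicF.XT (st k X) (SpA k Ω⟦X⟧)).Modules} (i : S ⟶ VA e Ω⟦X⟧ fun i => C (a i) + τ * C (b i))
    (p : (VA e Ω⟦X⟧ fun i => C (a i) + τ * C (b i)) ⟶ Q) (w : i ≫ p = 0) (hS : (ShortComplex.mk i p w).ShortExact)
    (hSf : FlatMod.IsFinLocFree S) (hQf : FlatMod.IsFinLocFree Q) {N : X.Modules}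
    {F : (PicF.XT (st k X) (SpA k Ω⟦X⟧)).Modules}
    (e' : Nonempty (CohB1.tensorMod F (cst k (SpA k Ω⟦X⟧) N) ≅ CohB1.tensorMod (RefHull.dual S) Q)) :
    ∃ j ≤ m, (thetaIdeal k N (SpA k Ω⟦X⟧) F).ideal ⟨⊤, isAffineOpen_top (SpA k Ω⟦X⟧).left⟩ =
      Ideal.span {fn k ((PowerSeries.X : Ω⟦X⟧) ^ j)} := by
  obtain ⟨h₀, hgen, hk⟩ := K997.KS3.exists_gen_dvr e hab hu hτ h i p w hS hSf hQf
  exact FitTheta.exists_pow_series hdim (isFinLocFree_dual_tensor hSf hQf) e' h₀ hgen hk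

/-- **(K4)**, membership form. -/
theorem mem_theta [CharZero k] [IsProper (st k X)] (hdim : topologicalKrullDim X ≤ 1) {a b : Fin M → Ω}
    (hab : AlgebraicIndependent k (Sum.elim a b)) {τ u : Ω⟦X⟧} {m : ℕ} (hu : IsUnit u)
    (hτ : PowerSeries.derivative Ω τ = u * PowerSeries.X ^ m)
    (h : KSMain (k := k) e Ω⟦X⟧ fun i => C (a i) + τ * C (b i))
    {S Q : (PicF.XT (st k X) (SpA k Ω⟦X⟧)).Modules} (i : S ⟶ VA e Ω⟦X⟧ fun i => C (a i) + τ * C (b i))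
    (p : (VA e Ω⟦X⟧ fun i => C (a i) + τ * C (b i)) ⟶ Q) (w : i ≫ p = 0) (hS : (ShortComplex.mk i p w).ShortExact)
    (hSf : FlatMod.IsFinLocFree S) (hQf : FlatMod.IsFinLocFree Q) {N : X.Modules}
    {F : (PicF.XT (st k X) (SpA k Ω⟦X⟧)).Modules}
    (e' : Nonempty (CohB1.tensorMod F (cst k (SpA k Ω⟦X⟧) N) ≅ CohB1.tensorMod (RefHull.dual S) Q)) :
    fn k ((PowerSeries.X : Ω⟦X⟧) ^ m) ∈
      (thetaIdeal k N (SpA k Ω⟦X⟧) F).ideal ⟨⊤, isAffineOpen_top (SpA k Ω⟦X⟧).left⟩ := by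
  obtain ⟨h₀, hgen, hk⟩ := K997.KS3.exists_gen_dvr e hab hu hτ h i p w hS hSf hQf
  exact (FitTheta.mem_thetaIdeal_iff hdim (isFinLocFree_dual_tensor hSf hQf) e' h₀ hgen _).mpr hk

end K360.KS4
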