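import Groth.Agent.BunMod.K890.KSDefs
import Groth.Agent.LoccohB.TopRepNat
import Groth.Agent.Ega3B.FibreResid
import Groth.Agent.MorSch.K921.PullDual

/-!
# (ONE): `R¹p_*(W^∨ ⊗ Q)` generated by one element over a field gives `h¹(Hom(W, Q)) ≤ 1`
-/

set_option autoImplicit false
universe u

open CategoryTheory CategoryTheory.Limits AlgebraicGeometry TopologicalSpace MonoidalCategory

namespace K360.One

open K140.BM K890.KS Groth.Agent
open scoped Groth.Agent.Dcoh.MonCat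

variable {k : Type u} [Field k] {X : Scheme.{u}} [X.Over (Spec (CommRingCat.of k))] {Ω : Type u} [Field Ω]
  [Algebra k Ω]

/-- `R¹p_* H` generated by one element: `h¹(H) ≤ 1`. -/
theorem finrank_le_one [QuasiCompact (st k X)] [QuasiSeparated (st k X)]
    {H H' : (PicF.XT (st k X) (SpA k Ω)).Modules} (hH : Coh.IsQCoh H) (e' : H ≅ H') (h₀ : R1 (k := k) Ω H)
    (hgen : ∀ x : R1 (k := k) Ω H, ∃ r : Ω, x = fn k r • h₀) :
    letI : (PicF.XT (st k X) (SpA k Ω)).Over (Spec (CommRingCat.of Ω)) := ⟨PicF.XTproj (st k X) (SpA k Ω)⟩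
    Module.finrank Ω (Coh.HH (PicF.XT (st k X) (SpA k Ω)) H' 1) ≤ 1 := by
  letI : (PicF.XT (st k X) (SpA k Ω)).Over (Spec (CommRingCat.of Ω)) := ⟨PicF.XTproj (st k X) (SpA k Ω)⟩
  have hA : IsAffine (SpA k Ω).left := inferInstanceAs (IsAffine (Spec (CommRingCat.of Ω)))
  let b := LoccohB.TopRepSec.beta (PicF.XTproj (st k X) (SpA k Ω)) 1 H hH
  have hb : ∀ (r : Γ((SpA k Ω).left, ⊤)) (s : R1 (k := k) Ω H), b (r • s) =
      (show Coh.Γtop (PicF.XT (st k X) (SpA k Ω)) from (PicF.XTproj (st k X) (SpA k Ω)).appTop r) • b s :=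
    LoccohB.TopRepSec.beta_smul (PicF.XTproj (st k X) (SpA k Ω)) 1 H hH
  obtain ⟨c, hc⟩ := Ega3B.FibreResid.exists_equiv_HH e' 1
  refine _root_.finrank_le_one (R := Ω) (c (b h₀)) fun w => ?_
  obtain ⟨w, rfl⟩ := c.surjective w
  obtain ⟨w, rfl⟩ := b.surjective w
  obtain ⟨r, rfl⟩ := hgen w
  refine ⟨r, ?_⟩
  rw [hb, hc]
  rfl

/-- **(ONE)** -/
theorem main [QuasiCompact (st k X)] [QuasiSeparated (st k X)] {W Q : (PicF.XT (st k X) (SpA k Ω)).Modules}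
    (hW : FlatMod.IsFinLocFree W) (hQ : FlatMod.IsFinLocFree Q)
    (h₀ : R1 (k := k) Ω (CohB1.tensorMod (RefHull.dual W) Q))
    (hgen : ∀ x : R1 (k := k) Ω (CohB1.tensorMod (RefHull.dual W) Q), ∃ r : Ω, x = fn k r • h₀) :
    letI : (PicF.XT (st k X) (SpA k Ω)).Over (Spec (CommRingCat.of Ω)) := ⟨PicF.XTproj (st k X) (SpA k Ω)⟩
    ∃ (W' : (PicF.XT (st k X) (SpA k Ω)).Modules) (_ : ExactPairing W W'),
      Module.finrank Ω (Coh.HH (PicF.XT (st k X) (SpA k Ω)) (CohB1.tensorMod Q W') 1) ≤ 1 := by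
  obtain ⟨W', ⟨h⟩⟩ := Dcoh.DualFLF.exists_exactPairing hW
  refine ⟨W', h, ?_⟩
  have hH : Coh.IsQCoh (CohB1.tensorMod (RefHull.dual W) Q) := PerfA.QCohEpi.isQCoh_of_isFinLocFree
    (Sga67.LocBasis.isFinLocFree_tensorMod (K921.PullDual.isFinLocFree_dual hW) hQ)
  exact finrank_le_one hH (K921.PullDual.tensMap (K921.PullDual.dualIso W W') (Iso.refl Q) ≪≫ β_ W' Q) h₀ hgen

end K360.One
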