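import Groth.Agent.BunMod.K360.One
import Groth.Agent.BunMod.K997.KS3
import Groth.Agent.BunMod.K885.Num

/-!
# (SUBONE): every subbundle `W` of `V_γ`, `γ = a + s b`, has `h¹(Hom(W, V_γ / W)) ≤ 1`
-/

set_option autoImplicit false
universe u

open CategoryTheory CategoryTheory.Limits AlgebraicGeometry TopologicalSpace MonoidalCategory

namespace K360.SubOne

open K140.BM K890.KS Groth.Agent
open scoped Groth.Agent.Dcoh.MonCat

variable {k : Type u} [Field k] {X : Scheme.{u}} [X.Over (Spec (CommRingCat.of k))] {K G : X.Modules} {M : ℕ}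
  (e : Fin M → (K ⟶ G)) {Ω : Type u} [Field Ω] [Algebra k Ω]

/-- The structure of a scheme over `Spec Ω` on `X_Ω`. -/
noncomputable abbrev ovΩ (k : Type u) [Field k] (X : Scheme.{u}) [X.Over (Spec (CommRingCat.of k))] (Ω : Type u)
    [Field Ω] [Algebra k Ω] : (PicF.XT (st k X) (SpA k Ω)).Over (Spec (CommRingCat.of Ω)) :=
  ⟨PicF.XTproj (st k X) (SpA k Ω)⟩

theorem subOne [CharZero k] [QuasiCompact (st k X)] [QuasiSeparated (st k X)] {a b : Fin M → Ω}
    (hab : AlgebraicIndependent k (Sum.elim a b)) (s : Ω) (h : KSMain (k := k) e Ω fun i => a i + s * b i)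
    [IsIntegral (PicF.XT (st k X) (SpA k Ω))] :
    letI := ovΩ k X Ω
    K885.Num.SubOne Ω (VA (k := k) e Ω fun i => a i + s * b i) := by
  intro W Q i p w hS hW hQ _ _
  obtain ⟨h₀, hgen⟩ := K997.KS3.exists_gen_field e hab s h i p w hS hW hQ
  exact One.main hW hQ h₀ hgen

end K360.SubOne
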