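import Groth.Agent.BunMod.K670.FamVan
import Groth.Agent.BunMod.K360.FitTheta
import Groth.Agent.Ega3B.RpushAff

/-!
# The theta ideal of a constant family without cohomology

* `thetaIdeal_cst_eq_top`: `H¹(X, ζ ⊗ N) = 0` ⟹ `thetaIdeal k N T (cst k T ζ) = ⊤` for every `T`;
* `thetaIdeal_cst_eq_top'`: the same from `H⁰(X, ζ ⊗ N) = 0` and `χ(ζ ⊗ N) = 0`;
* `dvd_of_mem`, `ne_zero_of_eq_top`, `eq_zero_of_eq_bot`: from `(θ(E) θ(D))(⊤) = (fn t)`, `θ(D) = ⊤`, to divisibility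
  properties of `t`.
-/

set_option autoImplicit false
universe u

open CategoryTheory CategoryTheory.Limits AlgebraicGeometry TopologicalSpace

namespace K360.Zeta

open K140.BM K54.Theta Groth.Agent

variable {k : Type u} [Field k] {X : Scheme.{u}} [X.Over (Spec (CommRingCat.of k))]

/-- `R¹p_*(E ⊗ N) = 0` over an affine base: the theta ideal is everything. -/
theorem thetaIdeal_eq_top_of_isZero [IsProper (st k X)] (hdim : topologicalKrullDim X ≤ 1) {T : Over (B0 k)}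
    [IsAffine T.left] {N : X.Modules} {E H : (PicF.XT (st k X) T).Modules} (hH : FlatMod.IsFinLocFree H)
    (e : Nonempty (CohB1.tensorMod E (cst k T N) ≅ H))
    (hz : IsZero ((Coh.Rpush (PicF.XTproj (st k X) T) 1).obj H)) : thetaIdeal k N T E = ⊤ := by
  apply Scheme.IdealSheafData.ext_of_isAffine
  rw [FitTheta.thetaIdeal_eq_fitt hdim hH e]
  have h1 : Subsingleton Γ((Coh.Rpush (PicF.XTproj (st k X) T) 1).obj H, ⊤) :=
    Ega3B.RpushAff.subsingleton_sections_of_isZero hz ⊤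
  refine (Ideal.eq_top_iff_one _).mpr ?_
  exact (FitDvr.fitt_cyclic (0 : Γ((Coh.Rpush (PicF.XTproj (st k X) T) 1).obj H, ⊤))
    (fun z => ⟨0, Subsingleton.elim _ _⟩) 1).mpr (Subsingleton.elim _ _)

theorem flat_st (k : Type u) [Field k] (X : Scheme.{u}) [X.Over (Spec (CommRingCat.of k))] : Flat (st k X) :=
  K670.Fam.flat_hom (Over.mk (st k X))

/-- **The theta ideal of a constant family**: it is everything if `H¹(X, ζ ⊗ N) = 0`. -/
theorem thetaIdeal_cst_eq_top [IsProper (st k X)] (hdim : topologicalKrullDim X ≤ 1) {ζ N : X.Modules}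
    (hζ : FlatMod.IsFinLocFree ζ) (hN : FlatMod.IsFinLocFree N)
    (h : Subsingleton (Coh.HH X (CohB1.tensorMod ζ N) 1)) (T : Over (B0 k)) :
    thetaIdeal k N T (cst k T ζ) = ⊤ := by
  let T₀ : Over (B0 k) := Over.mk (𝟙 (B0 k))
  have hA : IsAffine T₀.left := inferInstanceAs (IsAffine (B0 k))
  have hf : Flat (st k X) := flat_st k X
  have hn : IsNoetherian X := K703.Basic.isNoetherian k X
  have hζN : FlatMod.IsFinLocFree (CohB1.tensorMod ζ N) := Sga67.LocBasis.isFinLocFree_tensorMod hζ hN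
  have hvan : ∀ p, Subsingleton (Coh.HH X (CohB1.tensorMod ζ N) (p + 1)) := by
    intro p
    rcases Nat.eq_zero_or_pos p with rfl | hp
    · exact h
    · exact Fga.EulerLEAdd.subsingleton_HH X 1 hdim _ (p + 1) (by omega)
  have hz : IsZero ((Coh.Rpush (PicF.XTproj (st k X) T₀) 1).obj (cst k T₀ (CohB1.tensorMod ζ N))) :=
    K670.Fam.isZero_cst T₀ (Groth.Agent.PerfA.QCohEpi.isQCoh_of_isFinLocFree hζN)
      (K45.HomLift.isFlatOver_of_flf _ hζN) hvan
  have h0 : thetaIdeal k N T₀ (cst k T₀ ζ) = ⊤ :=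
    thetaIdeal_eq_top_of_isZero hdim (isFinLocFree_cst T₀ hζN)
      ⟨(ASBun.K791.Tens.pullTens _ ζ N).symm⟩ hz
  let g : T ⟶ T₀ := Over.homMk T.hom (Category.comp_id _)
  have h1 := thetaIdeal_pl hdim hN g (isFinLocFree_cst T₀ hζ)
  rw [h0] at h1
  rw [← thetaIdeal_iso hdim hN (PerfC.PullRestrict.isFinLocFree_pullback _ (isFinLocFree_cst T₀ hζ))
    (isFinLocFree_cst T hζ) (cstPl g ζ), ← h1, Scheme.IdealSheafData.comap_top]

/-- `H⁰ = 0` and `χ = 0` give `H¹ = 0` on a proper scheme of dimension `≤ 1`. -/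
theorem subsingleton_one [IsProper (X ↘ Spec (CommRingCat.of k))] (hdim : topologicalKrullDim X ≤ 1)
    {F : X.Modules} (hF : Coh.IsCoh F) (h0 : Subsingleton (Coh.HH X F 0)) (hχ : Curv2.euler k X F = 0) :
    Subsingleton (Coh.HH X F 1) := by
  have hn : IsNoetherian X := K703.Basic.isNoetherian k X
  have hfin : Module.Finite k (Coh.HH X F 1) := Groth.Agent.S0002.result k X F hF 1
  have h1 := VarietyA.EulerAdd.euler_eq_sum k F 2 fun i hi =>
    Fga.EulerLEAdd.subsingleton_HH X 1 hdim F i (by omega)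
  rw [hχ, Finset.sum_range_succ, Finset.sum_range_one, Module.finrank_zero_of_subsingleton] at h1
  simp only [Nat.cast_zero, mul_zero, pow_one, zero_add] at h1
  have h2 : Module.finrank k (Coh.HH X F 1) = 0 := by omega
  exact Module.finrank_zero_iff.mp h2

/-- The degree form: `ζ`, `N` invertible, `deg (ζ ⊗ N) = g - 1`, `H⁰(ζ ⊗ N) = 0`. -/
theorem thetaIdeal_cst_eq_top' [IsProper (st k X)] (hdim : topologicalKrullDim X ≤ 1) {ζ N : X.Modules}
    (hζ : FlatMod.IsFinLocFree ζ) (hN : FlatMod.IsFinLocFree N)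
    (h0 : Subsingleton (Coh.HH X (CohB1.tensorMod ζ N) 0)) (hχ : Curv2.euler k X (CohB1.tensorMod ζ N) = 0)
    (T : Over (B0 k)) : thetaIdeal k N T (cst k T ζ) = ⊤ := by
  have hn : IsNoetherian X := K703.Basic.isNoetherian k X
  exact thetaIdeal_cst_eq_top hdim hζ hN (subsingleton_one hdim
    (Groth.Agent.PerfA.CohSerre.isCoh_of_isFinLocFree (Sga67.LocBasis.isFinLocFree_tensorMod hζ hN)) h0 hχ) T

section Alg

variable {A : Type u} [CommRing A] [Algebra k A]

open K890.KS FitTheta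

attribute [local instance] isAffine_SpA

/-- `(I J)(⊤) = (fn t)`, `J = ⊤`, `fn a ∈ I(⊤)`: `t ∣ a`. -/
theorem dvd_of_mem {I J : (SpA k A).left.IdealSheafData} {t a : A} (hJ : J = ⊤)
    (ht : (I * J).ideal ⟨⊤, isAffineOpen_top _⟩ = Ideal.span {fn k t})
    (ha : fn k a ∈ I.ideal ⟨⊤, isAffineOpen_top _⟩) : t ∣ a := by
  have h1 : (I * J).ideal ⟨⊤, isAffineOpen_top _⟩ = I.ideal ⟨⊤, isAffineOpen_top _⟩ := by
    rw [hJ, Scheme.IdealSheafData.ideal_mul]
    simp
  rw [← h1, ht, Ideal.mem_span_singleton] at ha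
  obtain ⟨c, hc⟩ := ha
  obtain ⟨c, rfl⟩ := fn_bijective.2 c
  rw [← map_mul] at hc
  exact ⟨c, fn_bijective.1 hc⟩

/-- `(I J)(⊤) = (fn t)`, `I = J = ⊤`: `t` is a unit. -/
theorem isUnit_of_eq_top {I J : (SpA k A).left.IdealSheafData} {t : A} (hI : I = ⊤) (hJ : J = ⊤)
    (ht : (I * J).ideal ⟨⊤, isAffineOpen_top _⟩ = Ideal.span {fn k t}) : IsUnit t :=
  isUnit_of_dvd_one (dvd_of_mem hJ ht (by
    rw [hI]
    exact Submodule.mem_top))

/-- `(I J)(⊤) = (fn t)`, `I = ⊥`: `t = 0`. -/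
theorem eq_zero_of_eq_bot {I J : (SpA k A).left.IdealSheafData} {t : A} (hI : I = ⊥)
    (ht : (I * J).ideal ⟨⊤, isAffineOpen_top _⟩ = Ideal.span {fn k t}) : t = 0 := by
  rw [hI, Scheme.IdealSheafData.ideal_mul] at ht
  have h1 : (Ideal.span {fn k t} : Ideal Γ((SpA k A).left, ⊤)) = ⊥ := by
    rw [← ht]
    simp
  rw [Ideal.span_singleton_eq_bot] at h1
  exact fn_bijective.1 (h1.trans (map_zero _).symm)

end Alg

end K360.Zeta
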